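import Mathlib.RingTheory.MvPolynomial.Symmetric.Defs
import Mathlib.RingTheory.Nullstellensatz
import Mathlib.RingTheory.Polynomial.UniqueFactorization
import Mathlib.RingTheory.Localization.Away.Basic
import Mathlib.RingTheory.Localization.FractionRing
import Mathlib.Algebra.Polynomial.Roots
import Mathlib.Algebra.MvPolynomial.NoZeroDivisors
import Mathlib.Algebra.MvPolynomial.Division
import Mathlib.Tactic

/-!
# The surface `σ₂ = σ₄ = 0` in five variables is irreducible
-/

universe u

set_option autoImplicit false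

open MvPolynomial

namespace Groth.Agent.Esymm28

variable (k : Type u) [Field k]

noncomputable def e1 : MvPolynomial (Fin 4) k := X 0 + X 1 + X 2 + X 3
noncomputable def e2 : MvPolynomial (Fin 4) k :=
  X 0 * X 1 + X 0 * X 2 + X 0 * X 3 + X 1 * X 2 + X 1 * X 3 + X 2 * X 3
noncomputable def e3 : MvPolynomial (Fin 4) k :=
  X 0 * X 1 * X 2 + X 0 * X 1 * X 3 + X 0 * X 2 * X 3 + X 1 * X 2 * X 3
noncomputable def e4 : MvPolynomial (Fin 4) k := X 0 * X 1 * X 2 * X 3
noncomputable def q : MvPolynomial (Fin 4) k := e1 k * e4 k - e2 k * e3 k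

noncomputable def r1 : MvPolynomial (Fin 3) k := X 0 + X 1 + X 2
noncomputable def r2 : MvPolynomial (Fin 3) k := X 0 * X 1 + X 1 * X 2 + X 2 * X 0
noncomputable def r3 : MvPolynomial (Fin 3) k := X 0 * X 1 * X 2
noncomputable def cA : MvPolynomial (Fin 3) k := r3 k - r1 k * r2 k
noncomputable def qU : Polynomial (MvPolynomial (Fin 3) k) :=
  Polynomial.C (cA k) * Polynomial.X ^ 2 + Polynomial.C (-(r2 k * r2 k)) * Polynomial.X +
    Polynomial.C (-(r2 k * r3 k))

theorem finSuccEquiv_q : finSuccEquiv k 3 (q k) = qU k := by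
  have h0 : finSuccEquiv k 3 (X (0 : Fin 4)) = Polynomial.X := finSuccEquiv_X_zero
  have h1 : finSuccEquiv k 3 (X (1 : Fin 4)) = Polynomial.C (X 0) := finSuccEquiv_X_succ (j := (0 : Fin 3))
  have h2 : finSuccEquiv k 3 (X (2 : Fin 4)) = Polynomial.C (X 1) := finSuccEquiv_X_succ (j := (1 : Fin 3))
  have h3 : finSuccEquiv k 3 (X (3 : Fin 4)) = Polynomial.C (X 2) := finSuccEquiv_X_succ (j := (2 : Fin 3))
  simp only [q, qU, e1, e2, e3, e4, cA, r1, r2, r3, map_add, map_sub, map_mul, map_neg, h0, h1, h2, h3]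
  ring

variable [CharZero k]

theorem eval_r2_ne {v : Fin 3 → k} (h : v 0 * v 1 + v 1 * v 2 + v 2 * v 0 ≠ 0) (p : MvPolynomial (Fin 3) k)
    (hp : eval v p = 0) : ¬ p ∣ r2 k := by
  rintro ⟨w, hw⟩
  apply h
  have := congrArg (eval v) hw
  simpa [r2, hp] using this

theorem unit_of_dvd {f : MvPolynomial (Fin 3) k} (hA : f ∣ cA k) (hB : f ∣ r2 k * r2 k) : IsUnit f := by
  by_contra hf
  have hf0 : f ≠ 0 := by
    rintro rfl
    have h0 : r2 k * r2 k = 0 := zero_dvd_iff.1 hB
    have h1 := congrArg (eval fun _ => (1 : k)) h0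
    simp [r2] at h1
    norm_num at h1
  obtain ⟨p, hp, hpf⟩ := WfDvdMonoid.exists_irreducible_factor hf hf0
  have hpp : Prime p := hp.prime
  have h2 : p ∣ r2 k := (hpp.dvd_or_dvd (hpf.trans hB)).elim id id
  have h3 : p ∣ r3 k := by
    have := (hpf.trans hA).add (h2.mul_left (r1 k))
    simpa [cA] using this
  have key : ∀ i : Fin 3, p ∣ X i → False := by
    intro i hi
    have hX : Prime (X i : MvPolynomial (Fin 3) k) := MvPolynomial.X_prime
    have hassoc : Associated p (X i) := hpp.associated_of_dvd hX hi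
    refine eval_r2_ne k (v := fun j => if j = i then 0 else 1) ?_ (X i) (by simp) (hassoc.symm.dvd.trans h2)
    fin_cases i <;> simp
  rw [r3] at h3
  rcases hpp.dvd_or_dvd h3 with h | h
  · rcases hpp.dvd_or_dvd h with h | h
    · exact key 0 h
    · exact key 1 h
  · exact key 2 h

theorem not_square {w : MvPolynomial (Fin 3) k} :
    (r2 k * r2 k) * (r2 k * r2 k) + 4 * cA k * (r2 k * r3 k) ≠ w * w := by
  intro h
  let l : MvPolynomial (Fin 3) k →ₐ[k] Polynomial k :=
    aeval ![1, 1, Polynomial.X]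
  have h' := congrArg l h
  simp only [map_add, map_mul, map_ofNat] at h'
  have e2' : l (r2 k) = 2 * Polynomial.X + 1 := by simp [l, r2]; ring
  have e3' : l (r3 k) = Polynomial.X := by simp [l, r3]
  have eA : l (cA k) = Polynomial.X - (2 + Polynomial.X) * (2 * Polynomial.X + 1) := by
    simp [l, cA, r1, r2, r3]; ring
  rw [e2', e3', eA] at h'
  obtain ⟨z, hz⟩ : ∃ z : k, 2 * z + 1 = 0 := ⟨-(1 / 2), by ring⟩
  have hw : (l w).eval z = 0 := by
    have h1 := congrArg (Polynomial.eval z) h'
    simp only [Polynomial.eval_add, Polynomial.eval_mul, Polynomial.eval_ofNat, Polynomial.eval_X, Polynomial.eval_one,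
      hz, mul_zero, zero_mul, add_zero] at h1
    exact mul_self_eq_zero.1 h1.symm
  have h1 := congrArg (fun P => (Polynomial.derivative P).eval z) h'
  simp [hw, hz] at h1
  have hz' : z = -(1 / 2) := by linear_combination hz / 2
  subst hz'
  norm_num at h1

theorem irreducible_q : Irreducible (q k) := by
  suffices h : Irreducible (qU k) by
    rw [← MulEquiv.irreducible_iff (finSuccEquiv k 3).toMulEquiv]
    exact (finSuccEquiv_q k).symm ▸ h
  have hA : cA k ≠ 0 := fun h => by
    have := congrArg (eval ![(1 : k), 1, 0]) h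
    simp [cA, r1, r2, r3] at this
  have hdeg : (qU k).natDegree = 2 := Polynomial.natDegree_quadratic hA
  have hc2 : (qU k).coeff 2 = cA k := by simp [qU, Polynomial.coeff_C, Polynomial.coeff_X]
  have hc1 : (qU k).coeff 1 = -(r2 k * r2 k) := by simp [qU, Polynomial.coeff_C, Polynomial.coeff_X_pow]
  have hc0 : (qU k).coeff 0 = -(r2 k * r3 k) := by simp [qU]
  refine ⟨fun hu => by have := Polynomial.natDegree_eq_zero_of_isUnit hu; omega, fun f g hfg => ?_⟩
  have hq0 : qU k ≠ 0 := fun h => by simp [h] at hdeg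
  have hf0 : f ≠ 0 := fun h => hq0 (by rw [hfg, h, zero_mul])
  have hg0 : g ≠ 0 := fun h => hq0 (by rw [hfg, h, mul_zero])
  have hsum : f.natDegree + g.natDegree = 2 := by rw [← Polynomial.natDegree_mul hf0 hg0, ← hfg, hdeg]
  have const : ∀ f g : Polynomial (MvPolynomial (Fin 3) k), qU k = f * g → f.natDegree = 0 → IsUnit f := by
    intro f g hfg hf
    rw [Polynomial.eq_C_of_natDegree_eq_zero hf] at hfg ⊢
    have d : ∀ n, f.coeff 0 ∣ (qU k).coeff n := fun n => ⟨g.coeff n, by rw [hfg, Polynomial.coeff_C_mul]⟩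
    exact Polynomial.isUnit_C.2 (unit_of_dvd k (hc2 ▸ d 2) (dvd_neg.1 (hc1 ▸ d 1)))
  rcases Nat.eq_zero_or_pos f.natDegree with hf | hf
  · exact Or.inl (const f g hfg hf)
  rcases Nat.eq_zero_or_pos g.natDegree with hg | hg
  · exact Or.inr (const g f (by rw [hfg, mul_comm]) hg)
  exfalso
  obtain ⟨a, b, rfl⟩ := Polynomial.exists_eq_X_add_C_of_natDegree_le_one (p := f) (by omega)
  obtain ⟨c, d, rfl⟩ := Polynomial.exists_eq_X_add_C_of_natDegree_le_one (p := g) (by omega)
  have e : qU k = Polynomial.C (a * c) * Polynomial.X ^ 2 + Polynomial.C (a * d + b * c) * Polynomial.X +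
      Polynomial.C (b * d) := by
    rw [hfg]; simp only [map_mul, map_add]; ring
  have k2 : cA k = a * c := by rw [← hc2, e]; simp only [Polynomial.coeff_add, Polynomial.coeff_C_mul, Polynomial.coeff_X_pow, Polynomial.coeff_X, Polynomial.coeff_C]; norm_num
  have k1 : -(r2 k * r2 k) = a * d + b * c := by
    rw [← hc1, e]; simp only [Polynomial.coeff_add, Polynomial.coeff_C_mul, Polynomial.coeff_X_pow, Polynomial.coeff_X, Polynomial.coeff_C]; norm_num
  have k0 : -(r2 k * r3 k) = b * d := by rw [← hc0, e]; simp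
  refine not_square k (w := a * d - b * c) ?_
  linear_combination (-(r2 k * r2 k) + (a * d + b * c)) * k1 - 4 * b * d * k2 - 4 * cA k * k0

theorem esymm_two : MvPolynomial.esymm (Fin 5) k 2 =
    rename Fin.succ (e2 k) + X 0 * rename Fin.succ (e1 k) := by
  rw [esymm, show (Finset.univ : Finset (Fin 5)).powersetCard 2 =
    {{0, 1}, {0, 2}, {0, 3}, {0, 4}, {1, 2}, {1, 3}, {1, 4}, {2, 3}, {2, 4}, {3, 4}} by decide]
  repeat rw [Finset.sum_insert (by decide)]
  simp +decide [e1, e2]
  ring

theorem esymm_four : MvPolynomial.esymm (Fin 5) k 4 =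
    rename Fin.succ (e4 k) + X 0 * rename Fin.succ (e3 k) := by
  rw [esymm, show (Finset.univ : Finset (Fin 5)).powersetCard 4 =
    {{0, 1, 2, 3}, {0, 1, 2, 4}, {0, 1, 3, 4}, {0, 2, 3, 4}, {1, 2, 3, 4}} by decide]
  repeat rw [Finset.sum_insert (by decide)]
  simp +decide [e3, e4]
  ring

section Chart

variable {k}
variable (n d : MvPolynomial (Fin 4) k)

/-- elimination of the first variable over a chart -/
noncomputable def psi : MvPolynomial (Fin 5) k →ₐ[k] Localization.Away d :=
  aeval (Fin.cons (algebraMap _ (Localization.Away d) n * IsLocalization.Away.invSelf d)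
    fun i => algebraMap (MvPolynomial (Fin 4) k) (Localization.Away d) (X i) : Fin 5 → Localization.Away d)

theorem eval_eq_zero_of_psi (K : Type u) [Field K] [Algebra (MvPolynomial (Fin 4) k) K]
    (φ : MvPolynomial (Fin 5) k →+* K) (hd : algebraMap (MvPolynomial (Fin 4) k) K d ≠ 0)
    (hφ : ∀ i : Fin 4, φ (X i.succ) = algebraMap (MvPolynomial (Fin 4) k) K (X i))
    (hφ0 : φ (X 0) * algebraMap (MvPolynomial (Fin 4) k) K d = algebraMap (MvPolynomial (Fin 4) k) K n)
    (hφC : ∀ c : k, φ (C c) = algebraMap (MvPolynomial (Fin 4) k) K (C c))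
    (hker : ∀ g, algebraMap (MvPolynomial (Fin 4) k) K g = 0 → q k ∣ g)
    (h : MvPolynomial (Fin 5) k) (hh : φ h = 0) (t : k) (x : Fin 4 → k) (hx : eval x d ≠ 0)
    (ht : t * eval x d = eval x n) (hq : eval x (q k) = 0) : eval (Fin.cons t x : Fin 5 → k) h = 0 := by
  let L := Localization.Away d
  let toK : L →+* K := IsLocalization.Away.lift d (Ne.isUnit hd)
  let tok : L →+* k := IsLocalization.Away.lift d (g := (eval x : MvPolynomial (Fin 4) k →+* k)) (Ne.isUnit hx)
  have hK : ∀ g, toK (algebraMap _ L g) = algebraMap _ K g := fun g => IsLocalization.Away.lift_eq _ _ g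
  have hk : ∀ g, tok (algebraMap _ L g) = eval x g := fun g => IsLocalization.Away.lift_eq _ _ g
  have hinv : algebraMap _ L d * IsLocalization.Away.invSelf d = 1 := IsLocalization.Away.mul_invSelf d
  have c1 : toK.comp (psi n d).toRingHom = φ := by
    refine MvPolynomial.ringHom_ext (fun c => ?_) fun i => ?_
    · simp only [RingHom.comp_apply, AlgHom.toRingHom_eq_coe, RingHom.coe_coe, hφC, psi, aeval_C]
      rw [IsScalarTower.algebraMap_apply k (MvPolynomial (Fin 4) k) L, hK]
      rfl
    · refine Fin.cases ?_ (fun j => ?_) i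
      · simp only [RingHom.comp_apply, AlgHom.toRingHom_eq_coe, RingHom.coe_coe, psi, aeval_X, Fin.cons_zero]
        apply mul_right_cancel₀ hd
        rw [hφ0, ← hK d, ← map_mul, mul_assoc, mul_comm (IsLocalization.Away.invSelf d), hinv, mul_one, hK]
      · simp only [RingHom.comp_apply, AlgHom.toRingHom_eq_coe, RingHom.coe_coe, psi, aeval_X, Fin.cons_succ, hK, hφ]
        exact hK _
  have c2 : tok.comp (psi n d).toRingHom = (eval (Fin.cons t x : Fin 5 → k)) := by
    refine MvPolynomial.ringHom_ext (fun c => ?_) fun i => ?_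
    · simp only [RingHom.comp_apply, AlgHom.toRingHom_eq_coe, RingHom.coe_coe, psi, aeval_C, eval_C]
      rw [IsScalarTower.algebraMap_apply k (MvPolynomial (Fin 4) k) L, hk]
      simp
    · refine Fin.cases ?_ (fun j => ?_) i
      · simp only [RingHom.comp_apply, AlgHom.toRingHom_eq_coe, RingHom.coe_coe, psi, aeval_X, eval_X, Fin.cons_zero]
        apply mul_right_cancel₀ hx
        rw [ht, ← hk d, ← map_mul, mul_assoc, mul_comm (IsLocalization.Away.invSelf d), hinv, mul_one, hk]
      · simp [psi, hk]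
        exact (hk (X j)).trans (eval_X j)
  obtain ⟨m, g, hg⟩ := IsLocalization.Away.surj d (psi n d h)
  have h1 : algebraMap _ K g = 0 := by
    have := congrArg toK hg
    rw [map_mul, hK, show toK (psi n d h) = φ h from RingHom.congr_fun c1 h, hh, zero_mul] at this
    exact this.symm
  obtain ⟨w, rfl⟩ := hker g h1
  have h2 := congrArg tok hg
  simp only [map_mul, map_pow, hk, hq, zero_mul] at h2
  rw [show tok (psi n d h) = eval (Fin.cons t x : Fin 5 → k) h from RingHom.congr_fun c2 h] at h2
  rw [show tok (algebraMap _ (Localization.Away d) d) = eval x d from hk d,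
    show tok (algebraMap _ (Localization.Away d) (q k)) = 0 from (hk _).trans hq, zero_mul] at h2
  exact (mul_eq_zero.1 h2).resolve_right (pow_ne_zero _ hx)

end Chart

variable [IsAlgClosed k]

theorem isPrime_radical :
    (Ideal.span ({MvPolynomial.esymm (Fin 5) k 2, MvPolynomial.esymm (Fin 5) k 4} :
      Set (MvPolynomial (Fin 5) k))).radical.IsPrime := by
  let I := Ideal.span ({MvPolynomial.esymm (Fin 5) k 2, MvPolynomial.esymm (Fin 5) k 4} :
      Set (MvPolynomial (Fin 5) k))
  haveI hQ : (Ideal.span {q k}).IsPrime :=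
    (Ideal.span_singleton_prime (irreducible_q k).ne_zero).2 (irreducible_q k).prime
  let Q := MvPolynomial (Fin 4) k ⧸ Ideal.span {q k}
  let K := FractionRing Q
  letI : Algebra (MvPolynomial (Fin 4) k) K := ((algebraMap Q K).comp (Ideal.Quotient.mk _)).toAlgebra
  let a := algebraMap (MvPolynomial (Fin 4) k) K
  have hker : ∀ g, a g = 0 → q k ∣ g := fun g hg =>
    Ideal.mem_span_singleton.1 (Ideal.Quotient.eq_zero_iff_mem.1
      (IsFractionRing.injective Q K (by simpa [a, RingHom.algebraMap_toAlgebra] using hg)))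
  have hpt : ∀ g, ∀ v : Fin 4 → k, eval v (q k) = 0 → eval v g ≠ 0 → a g ≠ 0 := by
    intro g v hv hg h0
    obtain ⟨w, rfl⟩ := hker g h0
    exact hg (by rw [map_mul, hv, zero_mul])
  have hv : eval ![(2 : k), -1, 0, 0] (q k) = 0 := by simp [q, e1, e2, e3, e4]
  have ha1 : a (e1 k) ≠ 0 := hpt _ _ hv (by simp [e1]; norm_num)
  have ha3 : a (e3 k) ≠ 0 := by
    intro h0
    obtain ⟨w, hw⟩ := hker _ h0
    have h1 := congrArg MvPolynomial.totalDegree hw
    have h2 : eval (fun i : Fin 4 => if i = 3 then 0 else (1 : k)) (e3 k) ≠ 0 := by simp [e3]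
    have hwne : w ≠ 0 := fun h => h2 (by rw [hw, h, mul_zero, map_zero])
    rw [totalDegree_mul_of_isDomain (irreducible_q k).ne_zero hwne] at h1
    have hd3 : (e3 k).totalDegree ≤ 3 := by
      have : (e3 k).IsHomogeneous 3 :=
        ((((isHomogeneous_X k 0).mul (isHomogeneous_X k 1)).mul (isHomogeneous_X k 2)).add
          (((isHomogeneous_X k 0).mul (isHomogeneous_X k 1)).mul (isHomogeneous_X k 3))).add
          (((isHomogeneous_X k 0).mul (isHomogeneous_X k 2)).mul (isHomogeneous_X k 3)) |>.add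
          (((isHomogeneous_X k 1).mul (isHomogeneous_X k 2)).mul (isHomogeneous_X k 3))
      exact this.totalDegree_le
    have hqd : (q k).totalDegree = 5 := by
      have h1' : (e1 k).IsHomogeneous 1 :=
        (((isHomogeneous_X k 0).add (isHomogeneous_X k 1)).add (isHomogeneous_X k 2)).add (isHomogeneous_X k 3)
      have h4' : (e4 k).IsHomogeneous 4 :=
        (((isHomogeneous_X k 0).mul (isHomogeneous_X k 1)).mul (isHomogeneous_X k 2)).mul (isHomogeneous_X k 3)
      have h2' : (e2 k).IsHomogeneous 2 :=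
        (((((isHomogeneous_X k 0).mul (isHomogeneous_X k 1)).add
          ((isHomogeneous_X k 0).mul (isHomogeneous_X k 2))).add ((isHomogeneous_X k 0).mul (isHomogeneous_X k 3))).add
          ((isHomogeneous_X k 1).mul (isHomogeneous_X k 2))).add ((isHomogeneous_X k 1).mul (isHomogeneous_X k 3)) |>.add
          ((isHomogeneous_X k 2).mul (isHomogeneous_X k 3))
      have h3' : (e3 k).IsHomogeneous 3 :=
        ((((isHomogeneous_X k 0).mul (isHomogeneous_X k 1)).mul (isHomogeneous_X k 2)).add
          (((isHomogeneous_X k 0).mul (isHomogeneous_X k 1)).mul (isHomogeneous_X k 3))).add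
          (((isHomogeneous_X k 0).mul (isHomogeneous_X k 2)).mul (isHomogeneous_X k 3)) |>.add
          (((isHomogeneous_X k 1).mul (isHomogeneous_X k 2)).mul (isHomogeneous_X k 3))
      exact ((h1'.mul h4').sub (h2'.mul h3')).totalDegree (irreducible_q k).ne_zero
    omega
  let τ : K := - a (e2 k) / a (e1 k)
  let φ : MvPolynomial (Fin 5) k →+* K :=
    eval₂Hom (a.comp C) (Fin.cons τ fun i => a (X i) : Fin 5 → K)
  have hφS : ∀ g, φ (rename Fin.succ g) = a g := by
    intro g
    have : φ.comp (rename Fin.succ : MvPolynomial (Fin 4) k →ₐ[k] MvPolynomial (Fin 5) k).toRingHom = a :=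
      MvPolynomial.ringHom_ext (fun c => by simp [φ]) fun i => by simp [φ]
    exact RingHom.congr_fun this g
  have haq : a (e1 k) * a (e4 k) = a (e2 k) * a (e3 k) := by
    have h0 : a (q k) = 0 := by
      simp only [a, RingHom.algebraMap_toAlgebra, RingHom.comp_apply]
      rw [Ideal.Quotient.eq_zero_iff_mem.2 (Ideal.mem_span_singleton_self _), map_zero]
    simp only [q, map_sub, map_mul, sub_eq_zero] at h0
    exact h0
  have hφ0 : φ (X 0) = τ := by simp [φ]
  have hτ : τ * a (e1 k) = - a (e2 k) := div_mul_cancel₀ _ ha1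
  have hτ3 : τ * a (e3 k) = - a (e4 k) :=
    mul_right_cancel₀ ha1 (by linear_combination a (e3 k) * hτ + haq)
  have hσ : φ (MvPolynomial.esymm (Fin 5) k 2) = 0 ∧ φ (MvPolynomial.esymm (Fin 5) k 4) = 0 := by
    constructor
    · rw [esymm_two, map_add, map_mul, hφS, hφS, hφ0]
      linear_combination hτ
    · rw [esymm_four, map_add, map_mul, hφS, hφS, hφ0]
      linear_combination hτ3
  have hI : I ≤ RingHom.ker φ := Ideal.span_le.2 (by
    rintro _ (rfl | rfl)
    · exact hσ.1
    · exact hσ.2)
  suffices hrad : ∀ h, φ h = 0 → h ∈ I.radical by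
    have : I.radical = RingHom.ker φ :=
      le_antisymm ((Ideal.IsPrime.radical_le_iff (RingHom.ker_isPrime φ)).2 hI) fun h hh => hrad h hh
    rw [show (Ideal.span _).radical = RingHom.ker φ from this]
    exact RingHom.ker_isPrime φ
  intro h hh
  rw [← MvPolynomial.vanishingIdeal_zeroLocus_eq_radical (K := k)]
  intro v hv'
  show aeval v h = 0
  rw [aeval_eq_eval]
  have z2 : eval v (MvPolynomial.esymm (Fin 5) k 2) = 0 := by
    rw [← aeval_eq_eval]; exact hv' _ (Ideal.subset_span (Or.inl rfl))
  have z4 : eval v (MvPolynomial.esymm (Fin 5) k 4) = 0 := by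
    rw [← aeval_eq_eval]; exact hv' _ (Ideal.subset_span (Or.inr rfl))
  obtain ⟨t, x, rfl⟩ : ∃ t x, v = Fin.cons t x := ⟨v 0, Fin.tail v, (Fin.cons_self_tail v).symm⟩
  have hev : ∀ g, eval (Fin.cons t x : Fin 5 → k) (rename Fin.succ g) = eval x g := fun g => by
    rw [eval_rename]; rfl
  rw [esymm_two, map_add, map_mul, hev, hev, eval_X, Fin.cons_zero] at z2
  rw [esymm_four, map_add, map_mul, hev, hev, eval_X, Fin.cons_zero] at z4
  have hxq : eval x (q k) = 0 := by
    rw [q, map_sub, map_mul, map_mul]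
    linear_combination eval x (e1 k) * z4 - eval x (e3 k) * z2
  have chart1 : ∀ (t : k) (x : Fin 4 → k), eval x (q k) = 0 → eval x (e1 k) ≠ 0 →
      eval x (e2 k) + t * eval x (e1 k) = 0 → eval (Fin.cons t x : Fin 5 → k) h = 0 := by
    intro t x hxq hx ht
    refine eval_eq_zero_of_psi (-e2 k) (e1 k) K φ ha1 (fun i => by simp [φ]; rfl) ?_ (fun c => by simp [φ]; rfl)
      hker h hh t x hx (by rw [map_neg]; linear_combination ht) hxq
    rw [hφ0]
    show τ * a (e1 k) = a (-e2 k)
    rw [map_neg]
    exact hτ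
  by_cases hx1 : eval x (e1 k) = 0
  swap
  · exact chart1 t x hxq hx1 z2
  by_cases hx3 : eval x (e3 k) = 0
  swap
  · refine eval_eq_zero_of_psi (-e4 k) (e3 k) K φ ha3 (fun i => by simp [φ]; rfl) ?_ (fun c => by simp [φ]; rfl)
      hker h hh t x hx3 (by rw [map_neg]; linear_combination z4) hxq
    rw [hφ0]
    show τ * a (e3 k) = a (-e4 k)
    rw [map_neg]
    exact hτ3
  have hx2 : eval x (e2 k) = 0 := by rw [hx1, mul_zero, add_zero] at z2; exact z2
  have hx4 : eval x (e4 k) = 0 := by rw [hx3, mul_zero, add_zero] at z4; exact z4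
  have hzero : ∀ i, x i = 0 := by
    intro i
    have : x i ^ 4 - eval x (e1 k) * x i ^ 3 + eval x (e2 k) * x i ^ 2 - eval x (e3 k) * x i + eval x (e4 k) = 0 := by
      fin_cases i <;> simp [e1, e2, e3, e4] <;> ring
    rw [hx1, hx2, hx3, hx4] at this
    exact pow_eq_zero_iff (by norm_num : 4 ≠ 0) |>.1 (by linear_combination this)
  -- a curve in the main chart through a point of the remaining line
  have limit : ∀ (c : Fin 5 → Polynomial k), (∀ s : k, s ≠ 0 → s ≠ -1 →
      eval (fun i => (c i).eval s) h = 0) → eval (fun i => (c i).eval 0) h = 0 := by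
    intro c hc
    let P : Polynomial k := aeval c h
    have hP : ∀ s, P.eval s = eval (fun i => (c i).eval s) h := fun s => by
      have e : (Polynomial.evalRingHom s).comp (aeval c : MvPolynomial (Fin 5) k →ₐ[k] Polynomial k).toRingHom =
          eval fun i => (c i).eval s :=
        MvPolynomial.ringHom_ext (fun r => by simp) fun i => by simp
      exact RingHom.congr_fun e h
    have hinf : ({0, -1}ᶜ : Set k).Infinite := (Set.toFinite _).infinite_compl
    have : P = 0 := Polynomial.eq_zero_of_infinite_isRoot P (hinf.mono fun s hs => by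
      simp only [Set.mem_compl_iff, Set.mem_insert_iff, Set.mem_singleton_iff, not_or] at hs
      show P.eval s = 0
      rw [hP]; exact hc s hs.1 hs.2)
    rw [← hP, this, Polynomial.eval_zero]
  have hline : ∀ t : k, t ≠ 0 → eval (Fin.cons t (fun _ => 0) : Fin 5 → k) h = 0 := by
    intro t ht
    have e := limit ![Polynomial.C t * (1 + Polynomial.X), Polynomial.C t * Polynomial.X * (1 + Polynomial.X),
      -(Polynomial.C t * Polynomial.X), 0, 0] (fun s hs hs' => by
        have hpt := chart1 (t * (1 + s)) ![t * s * (1 + s), -(t * s), 0, 0] (by simp [q, e1, e2, e3, e4])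
          (by
            have : t * s * (1 + s) + -(t * s) = t * s ^ 2 := by ring
            simp [e1, this, ht, hs])
          (by simp [e1, e2]; ring)
        convert hpt using 3
        ext i; fin_cases i <;> simp <;> rfl)
    convert e using 3
    ext i; fin_cases i <;> simp <;> rfl
  have hx0 : x = fun _ => 0 := funext hzero
  subst hx0
  by_cases ht : t = 0
  swap
  · exact hline t ht
  subst ht
  have e := limit ![Polynomial.X, 0, 0, 0, 0] (fun s hs _ => by
    convert hline s hs using 3
    ext i; fin_cases i <;> simp <;> rfl)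
  convert e using 3
  ext i; fin_cases i <;> simp <;> rfl

end Groth.Agent.Esymm28
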